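import Cfsg.Agent.CosetEnum.MCo3.AData

/-! Certificate of a coset enumeration (generated data, owner: helper7). -/

set_option autoImplicit false
set_option maxRecDepth 1000000

namespace Cfsg.Agent.CosetEnum.MCo3A

def ck0 : CK := .cons 32 23 0x2b00048d5600089aac0010350c00096908002d5340003da420008f5940010290800065 ( .cons 32 10 0x50c0005ea1800065120000caac0006f448002e69080026556000e2aac001b9448000869080010d120003ec42001914d000032b28005b52100017aca0000f4d00001ea180003d2100007a680003b4d00007eb28004cd ( .cons 32 8 0x5600013aca000274012860016940020190209a00059d00880e448002e280250c004e2ab00008d000a18009ad00480c4840004689000995340004faca002594840006eab0009354300039a6800239405224000994d0003269a00086d00080850c000aa80650c0009a89000135008890006450049a0007f5 ( .cons 32 7 0x218000dd03089000535560001da68000bf594005de89000955650005eaac002ef558005d289000b6d0109a00064502c908005756500017a039028890005a500880c4480040280a4092420021d403202134000b4a01134000a8aca002bf4d0001da9a0006655600153a86002a35580053a90800a0d ( .cons 32 4 0x72ca000d35580018eb280047d4300063a001ba8003750006ea000dd4001ba8840018e81c412224001d94112ca0004340d242001f5484002628204480035a800c6a000800a52000d94079000d740090388900053d01880c40c20694300089a68000c540528600305400268000f7448001ee8009720012e402165000b2a01901489000ca54300193a059210012baac0025388400076814484003e6812558006230104840046a9a0000dd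 ( .cons 32 1 0x1200074a001010b2800b95650003ba680007740a286000774003910007220004c6002d68003910009ea00c8009ea0013d40995600194a048001069080020d0013a403100145442001ff4012081650002aa0090002b52100058a0032a800655090002ed024000514082001d28005b12b00013d0240004d884001ce9080013d02081240032d2b000135001364001948004d90006526500026a86000ad40042000574004d11080017d0ac0004b43280012d2100055a04103cab000125008ab000595000890001250049080012501cab00011d ( .cons 32 4 0x34000dba0a912000dba00284800509000a1200142424000c74072001e08003c100078201880a4042ac000694142860006942b00019d56000d0a680006b50c000d6890001ad2100035a01904c90800bad008800b7a0016f4002de80b2002108005651080084d050ab00017d001254091001254ca0005f448001ae8010c0043f000c5a01c81240040d00081200101402900143400036902100072a86000d9484001b2ab0007ad34000cea001c080038100067a044800ada ( .cons 32 2 0xd00010281e40c2ac0007d4218001f5120003ea158000f68650003da420021b8218001ed120003da07100090800b3d03481840b20029e815205143000f4a0027c8062049001674002ce809204800292b28002a5000ed40022e8d0000e683050c0038e82100040aac002535940021a800a620188008aa05c81040047100a40059502c4003cd090001dd042001d148400246ab0006dd000f14041 ( .cons 32 1 0x42001d550c001368164d0004f30028821000b9a240016343280025d5600114a6800161416208900144405134000b9a0026e884002c280640f224002ed4032240031d4480042e90800335068000df410800245024000df5580041e800aa23400107a0024480048900089a0015a4010268002e740044902a448005be9080097543000aba0024e90c001429a000975001394ac000854072ca0008541a000385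 ( .cons 32 0 0x6500116a00943000b9a002c88062019086002394840045a8650016ac158001668900038503c908002bd03880e5940015a82a4108002b55600054a0694300166a059650007fa860020d40058d000b1a0017e4002c6884001eea18009551200099a194001468144005812180028d1200082a002c2800585000b0a3400050a0b14300124a240012340820a10308144840013e8264004c502450c00137218005dd ( .cons 32 0 0x86003075580023ab2800a954300077a86001fb50c002b2834558005c280e484002b2a1800b8534000aca860012350c0027e8324840050b03050c005e2ab000abd01c9a00049d05c8900049d34000a3aca001154d00017a8560005da2400161416201100108006dd018908009fd ( .cons 32 0 0x480061282100184aac00251594004a29a00042d4300085a42002514328003c5001814041024000ef4108003bd3400089a084001da810594002fa800c80018e401f2240017d41e2158001ca81200071aac000df42b0005cd0748010c002da812000f2a084002da83840064800c2a120007fa86002d3403400124a0d9 ( .cons 25 0 0x21000aba860025d4d0002ae8090808c812000caaca001455940064a812000aba240011140444212240016b4090008251200080cca0014359400626890004056500123a680016b4108003fd0ac000f94328003e50809a000455 ( .nil )))))))))))))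

theorem part0 : chunks P L 409 ck0 0 60 = true := by decide +kernel

end Cfsg.Agent.CosetEnum.MCo3A
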