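import Cfsg.Agent.CosetEnum.MCo3.DData

/-! Certificate of a coset enumeration (generated data, owner: helper7). -/

set_option autoImplicit false
set_option maxRecDepth 1000000

namespace Cfsg.Agent.CosetEnum.MCo3D

def ck1 : CK := .cons 32 31 0x12039000005100003081840120000f900003481a403440000024072061030800000000090508002901880000000000000000a4001c8024072000c414200920a902c80e40920cb201101881840c2002a4062006200000000003720c1000284000052009000028800002407200000014806c86841d20c100000190000021050800090039014828400001001f2000000000041000000284001c80069034800018424200120390003442b201100072000001c40a20000000480440204032000000005208900003481a40018804400a4000016400019014802080640c20610048001100a901c10048060800052059000003320000000052000005200000284000c80000014201102c80c40 ( .cons 32 32 0x2200000901c81a40d200900000003481a4028400121000901c81a40d201100010031000000000000901c800c100a900242000002a403440620012000148744004403e405200000000220000052000440001100480e400000000240720e90608724004c804880c4000000080440000060801510000e40000000000001420000000000032006200000044001480000648000000008803c8006109480e4000090000007200901c81840c200905080031000000284022000000000005200000000000901c80014200000000001521190001a40d2014201100000480e400608004900000000000000000008080000000148 ( .cons 32 32 0x28400440920060422206903480e08012101880e40000054800000000490015200000004814405201320000152000000000000000000000003641420012400000001e400908024062081000284152000001a40d20142000a40320410000005641320002407200000000001420000000000000012039000120001480c40030818400129012109080000241020007c800000000000000a90000001840c209100000003081840284000000000110c48000000000000010100005080e40000000000000001a203900000003080000009008800062000000088018800480000a40000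 ( .cons 32 32 0x1a40d200000000002d200000901c88044620000000000a10000011018800142002a40000000120048400069034840400000000000000000000148000c20610048008812404211900000000000000002480001a40d2000b48000000000000901c800a10008000000000120110007200901c800152000908000d20690148104000a101c88e42d206903480a40220a90029080800480e4000481241520a9024801c80240720000000000000001c80000001840000024092001240000901c800152000908000d2069001520001c80000000002203103081840000000000284000390f08744442139004828400e4042000000002a40 ( .cons 32 32 0x480e400002640000000024142019200001520000d10548000050800000000000062001a40d20142000188000000000000000014800006080000000000000000000000000159000000001520001c802407206103080548002420000000052000000000001203903481a40004900000005480000e4000012000a40320000000a9000520000000152119000901c8001421590000e400014200a2000001a40d2000024200900480e4000d100092000000000000019200044072119000901c81a40d20152000001203903481a400000003241820c10000c400000000000000000039 ( .cons 32 32 0xd20690000119000000000000d206900a10000c4000005082a4000c82640000000000000000000000900000000000000000005480000000014200902080642e21690015202e2039003104085c41a201420a900290188000000000024072000000148000d20690000000000000000000000000000000000000000000013200720000000000000000000480e400000000000000c400000000001040320e906880000a40620000000001c80000051000000000000720c109483a42d2009000100290188 ( .cons 7 7 0x81440000000000000000000 ( .nil )))))))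

theorem part1 : chunks P L 3207 ck1 3008 198 = true := by decide +kernel

end Cfsg.Agent.CosetEnum.MCo3D
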