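import Cfsg.Agent.CosetEnum.Step
import Cfsg.Agent.CosetEnum.Front2
import Cfsg.Agent.CosetEnum.MCo3.AP0
import Cfsg.Agent.CosetEnum.MCo3.BP0
import Cfsg.Agent.CosetEnum.MCo3.CP0
import Cfsg.Agent.CosetEnum.MCo3.DP0
import Cfsg.Agent.CosetEnum.MCo3.DP1
import Cfsg.Agent.CosetEnum.MCo3.EP0
import Cfsg.Agent.CosetEnum.MCo3.EP1

/-! Certificates of coset enumerations and tables (generated, owner: helper28). -/

set_option autoImplicit false
set_option maxRecDepth 1000000

namespace Cfsg.Agent.CosetEnum.MCo3A

theorem st : staticA 6 iv (RL.map expand) subs P L = true := by decide +kernel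

theorem seg : Seg P L P.m 60 :=
  (Seg.nil).snoc part0

theorem cert : Cert 6 iv RL subs 60 := fun g H hl hrels hsubs =>
  upperA g H 6 iv hl (RL.map expand) subs hrels hsubs P L rfl st seg

end Cfsg.Agent.CosetEnum.MCo3A
namespace Cfsg.Agent.CosetEnum.MCo3B

theorem st : staticA 8 iv (RL.map expand) subs P L = true := by decide +kernel

theorem seg : Seg P L P.m 42 :=
  (Seg.nil).snoc part0

theorem cert : Cert 8 iv RL subs 42 := fun g H hl hrels hsubs =>
  upperA g H 8 iv hl (RL.map expand) subs hrels hsubs P L rfl st seg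

end Cfsg.Agent.CosetEnum.MCo3B
namespace Cfsg.Agent.CosetEnum.MCo3C

theorem st : staticA 10 iv (RL.map expand) subs P L = true := by decide +kernel

theorem seg : Seg P L P.m 176 :=
  (Seg.nil).snoc part0

theorem cert : Cert 10 iv RL subs 176 := fun g H hl hrels hsubs =>
  upperA g H 10 iv hl (RL.map expand) subs hrels hsubs P L rfl st seg

end Cfsg.Agent.CosetEnum.MCo3C
namespace Cfsg.Agent.CosetEnum.MCo3D

theorem st : staticA 12 iv (RL.map expand) subs P L = true := by decide +kernel

theorem seg : Seg P L P.m 2025 :=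
  ((Seg.nil).snoc part0).snoc part1

theorem cert : Cert 12 iv RL subs 2025 := fun g H hl hrels hsubs =>
  upperA g H 12 iv hl (RL.map expand) subs hrels hsubs P L rfl st seg

end Cfsg.Agent.CosetEnum.MCo3D
namespace Cfsg.Agent.CosetEnum.MCo3E

theorem st : staticA 14 iv (RL.map expand) subs P L = true := by decide +kernel

theorem seg : Seg P L P.m 552 :=
  ((Seg.nil).snoc part0).snoc part1

theorem cert : Cert 14 iv RL subs 552 := fun g H hl hrels hsubs =>
  upperA g H 14 iv hl (RL.map expand) subs hrels hsubs P L rfl st seg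

end Cfsg.Agent.CosetEnum.MCo3E
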